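import Groth.Agent.Lib.Punctual24.Basic
import Groth.Agent.Lib.EtStalk.FiniteStalk
import Groth.Agent.Lib.FieldH25.Transfer

/-!
# Cohomology along finite morphisms which are isomorphisms over the non-closed points
-/

set_option autoImplicit false
set_option linter.style.haveILetI false
set_option backward.isDefEq.respectTransparency.types false

universe u

open CategoryTheory CategoryTheory.Limits AlgebraicGeometry Opposite CategoryTheory.Abelian

namespace Groth.Agent.FinBirat24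

open Groth.Agent.EtStalk

variable {X Y : Scheme.{u}} (f : X ⟶ Y)

/-- The unit is bijective on stalks at points with exactly one lift. -/
theorem bijective_stalk_unit [IsFinite f] {Ω : Type u} [Field Ω] [IsAlgClosed Ω]
    (l : Spec (CommRingCat.of Ω) ⟶ X) (hl : ∀ l' : Spec (CommRingCat.of Ω) ⟶ X, l' ≫ f = l ≫ f → l' = l)
    (F : EtCoh.Ab Y) :
    Function.Bijective ((EtCoh.stalk (l ≫ f)).map ((EtCoh.pullPushAdj f).unit.app F)) := by
  let l₀ : fLifts f (l ≫ f) := ⟨l, rfl⟩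
  have hu : ∀ l' : fLifts f (l ≫ f), l' = l₀ := fun l' => Subtype.ext (hl l'.1 l'.2)
  have hb := bijective_liftStalk f (l ≫ f) ((EtCoh.pull f).obj F)
  have h1 : Function.Bijective (liftStalk f (l ≫ f) l₀ ((EtCoh.pull f).obj F)) := by
    constructor
    · intro p q e
      exact hb.1 (funext fun l' => by rw [hu l']; exact e)
    · intro y
      obtain ⟨p, hp⟩ := hb.2 fun l' => hu l' ▸ y
      exact ⟨p, congrFun hp l₀⟩
  refine (Function.Bijective.of_comp_iff' h1 _).1 ?_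
  have he : (⇑(liftStalk f (l ≫ f) l₀ ((EtCoh.pull f).obj F))) ∘
      ⇑((EtCoh.stalk (l ≫ f)).map ((EtCoh.pullPushAdj f).unit.app F)) = ⇑(stalkPull f l F) := by
    funext p
    obtain ⟨V, v, s, rfl⟩ := germ_surjective _ _ p
    refine (congrArg _ (germ_nat _ _ v s)).trans ?_
    exact (liftStalk_germ f (l ≫ f) l₀ _ v _).trans (germ_stalkPull f l F v s).symm
  exact he ▸ ConcreteCategory.bijective_of_isIso (stalkPull f l F)

/-- The unit is an isomorphism over an open over which `f` is an isomorphism. -/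
theorem isIso_pull_unit [IsFinite f] (U : Y.Opens) [IsIso (f ∣_ U)] (F : EtCoh.Ab Y) :
    IsIso ((EtCoh.pull U.ι).map ((EtCoh.pullPushAdj f).unit.app F)) := by
  rw [isIso_iff_stalk_alg]
  intro Ω _ _ ζ
  let ω : Spec (CommRingCat.of Ω) ⟶ (f ⁻¹ᵁ U : X.Opens) := ζ ≫ inv (f ∣_ U)
  have hω : (ω ≫ (f ⁻¹ᵁ U).ι) ≫ f = ζ ≫ U.ι := by
    show ((ζ ≫ inv (f ∣_ U)) ≫ (f ⁻¹ᵁ U).ι) ≫ f = ζ ≫ U.ι
    rw [Category.assoc, Category.assoc, ← morphismRestrict_ι, IsIso.inv_hom_id_assoc]
  have hb : Function.Bijective ((EtCoh.stalk (ζ ≫ U.ι)).map ((EtCoh.pullPushAdj f).unit.app F)) := by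
    rw [← hω]
    refine bijective_stalk_unit f _ (fun l' h' => ?_) F
    have hr : Set.range l' ⊆ Set.range (f ⁻¹ᵁ U).ι := by
      rintro _ ⟨z, rfl⟩
      rw [Scheme.Opens.range_ι]
      show f (l' z) ∈ U
      rw [show f (l' z) = (ζ ≫ U.ι) z from congrArg (fun t : Spec (CommRingCat.of Ω) ⟶ Y => t z) (h'.trans hω)]
      exact (ζ z).2
    rw [← IsOpenImmersion.lift_fac (f ⁻¹ᵁ U).ι l' hr]
    congr 1
    rw [← cancel_mono (f ∣_ U), ← cancel_mono U.ι, Category.assoc, Category.assoc, morphismRestrict_ι,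
      IsOpenImmersion.lift_fac_assoc, h', Category.assoc]
  have hn := stalkPull_nat U.ι ζ ((EtCoh.pullPushAdj f).unit.app F)
  have := (ConcreteCategory.isIso_iff_bijective _).2 hb
  have : IsIso (stalkPull U.ι ζ F ≫ (EtCoh.stalk ζ).map ((EtCoh.pull U.ι).map ((EtCoh.pullPushAdj f).unit.app F))) := by
    have h2 : IsIso ((EtCoh.stalk (ζ ≫ U.ι)).map ((EtCoh.pullPushAdj f).unit.app F) ≫
        stalkPull U.ι ζ ((EtCoh.pull f ⋙ EtCoh.push f).obj F)) := inferInstance
    exact hn ▸ h2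
  haveI := IsIso.of_isIso_comp_left (stalkPull U.ι ζ F)
    ((EtCoh.stalk ζ).map ((EtCoh.pull U.ι).map ((EtCoh.pullPushAdj f).unit.app F)))
  exact ConcreteCategory.bijective_of_isIso
    ((EtCoh.stalk ζ).map ((EtCoh.pull U.ι).map ((EtCoh.pullPushAdj f).unit.app F)))

theorem isZero_stalk_of_pull (U : Y.Opens) {K : EtCoh.Ab Y} (hK : IsZero ((EtCoh.pull U.ι).obj K))
    {Ω : Type u} [Field Ω] [IsSepClosed Ω] (ξ : Spec (CommRingCat.of Ω) ⟶ Y) (hξ : ξ default ∈ U) :
    IsZero ((EtCoh.stalk ξ).obj K) := by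
  obtain ⟨ζ, rfl⟩ := exists_lift_point_open U.ι ξ (by rw [Scheme.Opens.range_ι]; exact hξ)
  exact IsZero.of_iso ((EtCoh.stalk ζ).map_isZero hK) (asIso (stalkPull U.ι ζ K))

/-- A morphism with punctual kernel and cokernel. -/
theorem of_punctual [IsLocallyNoetherian Y] [CompactSpace Y]
    (hsep : ∀ y : Punctual24.Pts Y, IsSepClosed (Y.residueField y.1)) {F G : EtCoh.Ab Y} (a : F ⟶ G)
    (hk : Punctual24.Punctual (kernel a)) (hc : Punctual24.Punctual (cokernel a)) (q : ℕ) :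
    Function.Surjective (fun x : EtCoh.H Y F (q + 1) => x.comp (Ext.mk₀ a) (add_zero (q + 1))) ∧
      (1 ≤ q → Function.Injective (fun x : EtCoh.H Y F (q + 1) => x.comp (Ext.mk₀ a) (add_zero (q + 1)))) := by
  have hK := fun k => Punctual24.subsingleton_H (P := kernel a) hk hsep (k + 1) (Nat.succ_pos k)
  have hC := fun k => Punctual24.subsingleton_H (P := cokernel a) hc hsep (k + 1) (Nat.succ_pos k)
  let S₁ := ShortComplex.mk (kernel.ι a) (Abelian.factorThruImage a)
    ((cancel_mono (Abelian.image.ι a)).1 (by simp))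
  let S₂ := ShortComplex.mk (Abelian.image.ι a) (cokernel.π a) (kernel.condition _)
  have hS₁ : S₁.ShortExact :=
    { exact := ShortComplex.exact_of_f_is_kernel _ (KernelFork.IsLimit.ofι' _ _ fun k hk' =>
        ⟨kernel.lift a k (by
          rw [← Abelian.image.fac a, ← Category.assoc, show k ≫ Abelian.factorThruImage a = 0 from hk',
            zero_comp]), kernel.lift_ι _ _ _⟩) }
  have hS₂ : S₂.ShortExact :=
    { exact := ShortComplex.exact_of_f_is_kernel _ (kernelIsKernel _) }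
  have e : ∀ x : EtCoh.H Y F (q + 1), x.comp (Ext.mk₀ a) (add_zero (q + 1)) =
      (x.comp (Ext.mk₀ S₁.g) (add_zero (q + 1))).comp (Ext.mk₀ S₂.f) (add_zero (q + 1)) := fun x => by
    rw [Ext.comp_assoc_of_third_deg_zero, Ext.mk₀_comp_mk₀]
    exact congrArg (fun t => x.comp (Ext.mk₀ t) (add_zero (q + 1))) (Abelian.image.fac a).symm
  refine ⟨fun y => ?_, fun hq => ?_⟩
  · obtain ⟨z, rfl⟩ := Ext.covariant_sequence_exact₂ _ hS₂ y (@Subsingleton.elim _ (hC q) _ _)
    obtain ⟨x, hx⟩ := Ext.covariant_sequence_exact₃ _ hS₁ z rfl (@Subsingleton.elim _ (hK (q + 1)) _ _)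
    exact ⟨x, (e x).trans (congrArg (fun t => t.comp (Ext.mk₀ S₂.f) (add_zero (q + 1))) hx)⟩
  · obtain ⟨q, rfl⟩ : ∃ k, q = k + 1 := ⟨q - 1, by omega⟩
    intro x x' h
    rw [← sub_eq_zero]
    have h0 : (x - x').comp (Ext.mk₀ a) (add_zero (q + 1 + 1)) = 0 := by
      rw [sub_eq_add_neg, Ext.add_comp, Ext.neg_comp, show x.comp (Ext.mk₀ a) _ = x'.comp (Ext.mk₀ a) _ from h,
        add_neg_cancel]
    rw [e] at h0
    obtain ⟨c, hc'⟩ := Ext.covariant_sequence_exact₁ _ hS₂ _ h0 (n₀ := q + 1) rfl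
    rw [@Subsingleton.elim _ (hC q) c 0, Ext.zero_comp] at hc'
    obtain ⟨d, hd⟩ := Ext.covariant_sequence_exact₂ _ hS₁ _ hc'.symm
    rw [@Subsingleton.elim _ (hK (q + 1)) d 0, Ext.zero_comp] at hd
    exact hd.symm

/-- Pullback along a finite morphism which is an isomorphism over the non-closed points. -/
theorem Hpull_bijective [IsLocallyNoetherian Y] [CompactSpace Y] [IsFinite f] (U : Y.Opens)
    [IsIso (f ∣_ U)] (hU : ∀ y : Y, ¬ IsClosed ({y} : Set Y) → y ∈ U)
    (hsep : ∀ y : Punctual24.Pts Y, IsSepClosed (Y.residueField y.1))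
    [PreservesFiniteLimits (EtCoh.pull f)] (F : EtCoh.Ab Y) (q : ℕ) :
    Function.Surjective (EtCore.Hpull f F (q + 1)) ∧
      (1 ≤ q → Function.Injective (EtCore.Hpull f F (q + 1))) := by
  let a := (EtCoh.pullPushAdj f).unit.app F
  haveI : PreservesFiniteLimits (EtCoh.pull U.ι) := EtStalk.preservesFiniteLimits_pull _
  haveI : PreservesColimitsOfSize.{0, 0} (EtCoh.pull U.ι) :=
    (EtCoh.pullPushAdj U.ι).leftAdjoint_preservesColimits
  haveI := isIso_pull_unit f U F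
  haveI : (EtCoh.pull U.ι).Additive := (EtCoh.pullPushAdj U.ι).left_adjoint_additive
  have hk : Punctual24.Punctual (kernel a) := fun Ω _ _ ξ hξ =>
    isZero_stalk_of_pull U ((isZero_kernel_of_mono ((EtCoh.pull U.ι).map a)).of_iso
      (PreservesKernel.iso (EtCoh.pull U.ι) a)) ξ (hU _ hξ)
  have hc : Punctual24.Punctual (cokernel a) := fun Ω _ _ ξ hξ =>
    isZero_stalk_of_pull U ((isZero_cokernel_of_epi ((EtCoh.pull U.ι).map a)).of_iso
      (PreservesCokernel.iso (EtCoh.pull U.ι) a)) ξ (hU _ hξ)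
  obtain ⟨hs, hi⟩ := of_punctual hsep a hk hc q
  have hb := FieldH25.bijective_HofPush_integral f ((EtCoh.pull f).obj F) (q + 1)
  have e : ⇑(EtCore.Hpull f F (q + 1)) = EtLim.HofPush f ((EtCoh.pull f).obj F) (q + 1) ∘
      fun x : EtCoh.H Y F (q + 1) => x.comp (Ext.mk₀ a) (add_zero (q + 1)) :=
    funext fun x => (FieldH25.HofPush_unit f F (q + 1) x).symm
  rw [e]
  exact ⟨hb.2.comp hs, fun hq => hb.1.comp (hi hq)⟩

end Groth.Agent.FinBirat24
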